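import Mathlib

set_option autoImplicit false
universe u v

open Polynomial

namespace Groth.Agent.CSATorsionLib

theorem exists_idem {A : Type v} [Ring A] [IsSimpleRing A] [IsArtinianRing A]
    (hA : ∃ y : A, y ≠ 0 ∧ ¬ IsUnit y) : ∃ e : A, IsIdempotentElem e ∧ e ≠ 0 ∧ e ≠ 1 := by
  obtain ⟨y, hy0, hy⟩ := hA
  haveI : IsSemisimpleRing A := IsSimpleRing.isSemisimpleRing_iff_isArtinianRing.mpr inferInstance
  have hI1 : Ideal.span {y} ≠ ⊤ := by
    intro h
    obtain ⟨z, hz⟩ := Ideal.mem_span_singleton'.mp (h ▸ Submodule.mem_top : (1 : A) ∈ Ideal.span {y})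
    exact hy (isUnit_of_dvd_one_aux y z hz)
  obtain ⟨e, he, hspan⟩ := IsSemisimpleRing.ideal_eq_span_idempotent (Ideal.span {y})
  refine ⟨e, he, fun h => ?_, fun h => ?_⟩
  · rw [h] at hspan
    exact hy0 (by simpa using hspan)
  · rw [h] at hspan
    exact hI1 (by simpa using hspan)
where
  isUnit_of_dvd_one_aux (y z : A) (hz : z * y = 1) : IsUnit y := by
    have : IsStablyFiniteRing A := inferInstance
    exact ⟨⟨y, z, mul_eq_one_symm hz, hz⟩, rfl⟩

theorem torsion_element (K : Type u) [Field K] (hK : ∀ n : ℕ, 0 < n → (X ^ n - 1 : K[X]).Splits)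
    (A : Type v) [Ring A] [Algebra K A] [IsSimpleRing A] [FiniteDimensional K A]
    (hA : ∃ y : A, y ≠ 0 ∧ ¬ IsUnit y) (d : ℕ) (hd : 0 < d) (hdK : (d : K) ≠ 0) :
    ∃ x : A, IsUnit x ∧ x ^ d ∈ (algebraMap K A).range ∧
      ∀ k : ℕ, 0 < k → k < d → x ^ k ∉ (algebraMap K A).range := by
  haveI : IsArtinianRing A := isArtinian_of_tower K (inferInstance : IsArtinian K A)
  obtain ⟨e, he, he0, he1⟩ := exists_idem hA
  haveI : NeZero d := ⟨hd.ne'⟩
  obtain ⟨ζ, hζ⟩ : ∃ ζ : K, IsPrimitiveRoot ζ d := by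
    have hcard : (primitiveRoots d K).card ≠ 0 := by
      have hsp : (cyclotomic d K).Splits :=
        (hK d hd).of_dvd (by simpa using Polynomial.X_pow_sub_C_ne_zero hd (1 : K)) (cyclotomic.dvd_X_pow_sub_one d K)
      have : NeZero (d : K) := ⟨hdK⟩
      have hdeg : (cyclotomic d K).degree ≠ 0 := (degree_cyclotomic_pos d K hd).ne'
      obtain ⟨r, hr⟩ := hsp.exists_eval_eq_zero hdeg
      intro h
      have : r ∈ primitiveRoots d K := by
        rw [mem_primitiveRoots hd]
        exact (isRoot_cyclotomic_iff.mp hr)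
      simp [Finset.card_eq_zero.mp h] at this
    obtain ⟨ζ, h⟩ := Finset.card_ne_zero.mp hcard
    exact ⟨ζ, (mem_primitiveRoots hd).mp h⟩
  have hmul : ∀ a b : K, (a • e + (1 - e)) * (b • e + (1 - e)) = (a * b) • e + (1 - e) := by
    intro a b
    have h1 : e * (1 - e) = 0 := he.mul_one_sub_self
    have h2 : (1 - e) * e = 0 := he.one_sub_mul_self
    have h3 : (1 - e) * (1 - e) = 1 - e := he.one_sub
    simp [mul_add, add_mul, smul_mul_assoc, mul_smul_comm, he.eq, h1, h2, h3, smul_smul, mul_comm b a]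
  have hpow : ∀ k : ℕ, (ζ • e + (1 - e)) ^ k = ζ ^ k • e + (1 - e) := by
    intro k
    induction k with
    | zero => simp
    | succ k ih => rw [pow_succ, ih, hmul, pow_succ]
  refine ⟨ζ • e + (1 - e), ?_, ?_, ?_⟩
  · refine IsUnit.of_pow_eq_one (n := d) ?_ hd.ne'
    rw [hpow, hζ.pow_eq_one, one_smul, add_sub_cancel]
  · exact ⟨1, by rw [map_one, hpow, hζ.pow_eq_one, one_smul, add_sub_cancel]⟩
  · rintro k hk hkd ⟨c, hc⟩
    rw [hpow, Algebra.algebraMap_eq_smul_one] at hc
    have hc1 : c = 1 := by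
      have h := congrArg (· * (1 - e)) hc
      simp only [smul_mul_assoc, one_mul, add_mul, he.mul_one_sub_self, smul_zero, zero_add, he.one_sub.eq] at h
      refine smul_left_injective K (sub_ne_zero.mpr he1.symm : (1 : A) - e ≠ 0) ?_
      simpa using h
    have h := congrArg (· * e) hc
    simp only [smul_mul_assoc, one_mul, add_mul, he.eq, he.one_sub_mul_self, add_zero, hc1] at h
    exact hζ.pow_ne_one_of_pos_of_lt hk.ne' hkd (smul_left_injective K he0 h).symm

end Groth.Agent.CSATorsionLib
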